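import Cfsg.Agent.Lib.Alperin.PGroup
import Cfsg.Agent.Lib.Core.FrattiniFaithful
import Cfsg.Agent.Lib.Core.PSolvable2
import Cfsg.Agent.S3779

/-!
Alperin's theorem: a finite solvable group with an automorphism of order `p` having `p^n` fixed
points has derived length bounded in terms of `p` and `n`.
-/

set_option autoImplicit false

namespace Cfsg.Agent.Lib.Alperin.Main

open scoped commutatorElement
open Cfsg
open Cfsg.Agent.Lib.Alperin.Mho Cfsg.Agent.Lib.Alperin.Sect Cfsg.Agent.Lib.Alperin.Key
open Cfsg.Agent.Lib.Alperin.Tors Cfsg.Agent.Lib.Alperin.PGroup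
open Cfsg.Agent.Lib.Core.Basic

universe u

variable {p : ℕ} [hp : Fact p.Prime]

/-- abbreviation -/
abbrev gamN (p : ℕ) (N : Type*) [Group N] : Subgroup N :=
  (⊤ : Subgroup N).lowerCentralSeries (xiN p)

/-- a finite solvable group has derived length at most its order -/
lemma derived_card_bot (Y : Type*) [Group Y] [Finite Y] [hY : Group.IsSolvable Y] {k : ℕ}
    (hk : Nat.card Y ≤ k) : derivedSeries Y k = ⊥ := by
  obtain ⟨m, hm⟩ := (Group.isSolvable_def Y).mp hY
  have hstat : ∀ j, derivedSeries Y (j + 1) = derivedSeries Y j → ∀ i, derivedSeries Y (j + i) = derivedSeries Y j := by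
    intro j hj i
    induction i with
    | zero => rfl
    | succ i ih =>
      rw [← add_assoc, derivedSeries_succ, ih, ← derivedSeries_succ, hj]
  have key : ∀ j : ℕ, derivedSeries Y j = ⊥ ∨ Nat.card (derivedSeries Y j) + j ≤ Nat.card Y := by
    intro j
    induction j with
    | zero =>
      right
      simp only [derivedSeries_zero, add_zero]
      exact le_of_eq (Nat.card_congr Subgroup.topEquiv.toEquiv)
    | succ j ih =>
      by_cases hb : derivedSeries Y j = ⊥
      · left
        rw [derivedSeries_succ, hb]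
        exact eq_bot_iff.mpr (Subgroup.commutator_le.mpr fun a ha b hb => by
          rw [Subgroup.mem_bot] at ha ⊢
          rw [ha]
          simp)
      · obtain h | h := ih
        · exact absurd h hb
        · right
          have hle : derivedSeries Y (j + 1) ≤ derivedSeries Y j := derivedSeries_antitone Y (Nat.le_succ j)
          have hne : derivedSeries Y (j + 1) ≠ derivedSeries Y j := by
            intro he
            have h1 := hstat j he (m + 0)
            have h2 : derivedSeries Y (j + (m + 0)) ≤ derivedSeries Y m :=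
              derivedSeries_antitone Y (by omega)
            rw [h1, hm] at h2
            exact hb (eq_bot_iff.mpr h2)
          have hcard : Nat.card (derivedSeries Y (j + 1)) < Nat.card (derivedSeries Y j) := by
            by_contra hc
            exact hne (Subgroup.eq_of_le_of_card_ge hle (not_lt.mp hc))
          omega
  obtain h | h := key k
  · exact h
  · have : 0 < Nat.card (derivedSeries Y k) := Nat.card_pos
    omega

/-- the reduced case: `O_{p'}(H) = 1` -/
theorem reduced_case {H : Type u} [Group H] [Finite H] [Group.IsSolvable H]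
    (hred : pPrimeCore p H = ⊥) (β : MulAut H) (hβ : β ^ p = 1) {n : ℕ}
    (hFix : Nat.card {x : H // β x = x} ≤ p ^ n) : derivedSeries H (tt p n + DD p n) = ⊥ := by
  have hS : IsPSolvable p H := Cfsg.Agent.Lib.Core.PSolvable2.isPSolvable_of_isSolvable
  have hβp : ∀ x, (β : H →* H)^[p] x = x := by
    have hk : ∀ (k : ℕ) (x : H), (β : H →* H)^[k] x = (β ^ k) x := by
      intro k x
      induction k generalizing x with
      | zero => rfl
      | succ k ih =>
        rw [Function.iterate_succ_apply', ih, pow_succ']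
        rfl
    intro x
    rw [hk, hβ]
    rfl
  let T : Subgroup H := pCore p H
  haveI hTn : T.Normal := inferInstance
  have hTp : IsPGroup p T := pCore_isPGroup
  have hTβ : ∀ x ∈ T, β x ∈ T := by
    intro x hx
    have h := (inferInstance : T.Characteristic).fixed β
    rw [← h] at hx
    exact hx
  let βT : MulAut T := resAut β T hTβ
  have hβT : βT ^ p = 1 := by
    ext x
    rw [resAut_pow, hβ]
    rfl
  have hFixT : Nat.card {x : T // βT x = x} ≤ p ^ n := by
    refine le_trans ?_ hFix
    apply Nat.card_le_card_of_injective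
      (fun x : {x : T // βT x = x} => (⟨(x.1 : H), congrArg Subtype.val x.2⟩ : {x : H // β x = x}))
    intro a b h
    apply Subtype.ext
    apply Subtype.ext
    exact congrArg (fun z : {x : H // β x = x} => z.1) h
  have hder := derived_eq_bot hTp βT hβT hFixT
  let U : Subgroup H := (frattini T).map T.subtype
  haveI hUn : U.Normal := ConjAct.normal_of_characteristic_of_normal
  have hUβ : ∀ x ∈ U, β x ∈ U := by
    rintro _ ⟨y, hy, rfl⟩
    refine ⟨βT y, ?_, rfl⟩
    have h : (frattini T).Characteristic := inferInstance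
    have h2 := h.fixed βT
    rw [← h2] at hy
    exact hy
  have hcomm : ∀ x ∈ T, ∀ y ∈ T, ⁅x, y⁆ ∈ U := by
    intro x hx y hy
    let x' : T := ⟨x, hx⟩
    let y' : T := ⟨y, hy⟩
    refine ⟨⁅x', y'⁆, ?_, rfl⟩
    exact Cfsg.Agent.Lib.PGroups.Basic.commutator_le_frattini hTp
      (Subgroup.commutator_mem_commutator (Subgroup.mem_top _) (Subgroup.mem_top _))
  have hpow : ∀ x ∈ T, x ^ p ∈ U := by
    intro x hx
    refine ⟨(⟨x, hx⟩ : T) ^ p, Cfsg.Agent.Lib.PGroups.Basic.pow_mem_frattini hTp _, rfl⟩
  have h1 := sec_card_le (Fact.out : p.Prime) (β : H →* H) hβp hFix hUβ hTβ hcomm hpow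
  obtain ⟨C, hCn, hCi, hC⟩ := exists_central_index U T
  have hCle : C.index ≤ tt p n := hCi.trans (Nat.factorial_le h1)
  have hCT : C ≤ T := by
    intro g hg
    refine Cfsg.Agent.Lib.Core.FrattiniFaithful.mem_pCore_of_commutator_mem_frattini hS hred g ?_
    intro t ht
    have := hC g hg t ht
    rwa [commutatorElement_def] at this
  have hTi : T.index ≤ tt p n := by
    refine le_trans (Nat.le_of_dvd ?_ (Subgroup.index_dvd_of_le hCT)) hCle
    exact Nat.pos_of_ne_zero Subgroup.index_ne_zero_of_finite
  have hq : derivedSeries (H ⧸ T) (tt p n) = ⊥ := by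
    haveI : Group.IsSolvable (H ⧸ T) := inferInstance
    apply derived_card_bot
    rw [← Subgroup.index_eq_card]
    exact hTi
  have h2 : derivedSeries H (tt p n) ≤ T := by
    have h3 := map_derivedSeries_le_derivedSeries (QuotientGroup.mk' T) (tt p n)
    rw [hq] at h3
    intro x hx
    have : (QuotientGroup.mk' T) x ∈ (⊥ : Subgroup (H ⧸ T)) := h3 ⟨x, hx, rfl⟩
    rw [Subgroup.mem_bot] at this
    exact (QuotientGroup.eq_one_iff x).mp this
  have h4 := derived_add_le T (tt p n) h2 (DD p n)
  rw [hder, Subgroup.map_bot] at h4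
  exact eq_bot_iff.mpr h4

/-- **Alperin's theorem.** -/
theorem main {G : Type u} [Group G] [Finite G] [Group.IsSolvable G] (α : MulAut G)
    (hα : orderOf α = p) {n : ℕ} (hcard : Nat.card {g : G // α g = g} = p ^ n) :
    derivedSeries G (tt p n + DD p n + xiN p) = ⊥ := by
  have hpp : p.Prime := Fact.out
  have hαp : α ^ p = 1 := hα ▸ pow_orderOf_eq_one α
  let N : Subgroup G := pPrimeCore p G
  haveI hNn : N.Normal := inferInstance
  have hNα : ∀ x ∈ N, α x ∈ N := by
    intro x hx
    have h := (inferInstance : N.Characteristic).fixed α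
    rw [← h] at hx
    exact hx
  have hNmap : N.map (α : G →* G) = N := by
    exact (map_pPrimeCore_equiv (p := p) α)
  let ᾱ : MulAut (G ⧸ N) := QuotientGroup.congr N N α hNmap
  have hᾱ : ∀ x : G, ᾱ (x : G ⧸ N) = ((α x : G) : G ⧸ N) := QuotientGroup.congr_mk N N α hNmap
  have hᾱp : ᾱ ^ p = 1 := by
    have hk : ∀ (k : ℕ) (x : G), (ᾱ ^ k) (x : G ⧸ N) = (((α ^ k) x : G) : G ⧸ N) := by
      intro k x
      induction k with
      | zero => rfl
      | succ k ih =>
        rw [pow_succ', pow_succ', MulAut.mul_apply, ih, hᾱ]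
        rfl
    ext q
    obtain ⟨x, rfl⟩ := QuotientGroup.mk_surjective q
    rw [hk, hαp]
    rfl
  have hFixb : Nat.card {x : G ⧸ N // ᾱ x = x} ≤ p ^ n := by
    have h := card_fix_le_of_surj (QuotientGroup.mk' N) (QuotientGroup.mk'_surjective N)
      (α : G →* G) (ᾱ : G ⧸ N →* G ⧸ N) (fun x => (hᾱ x).symm)
    have e : Nat.card {x : G // (α : G →* G) x = x} = p ^ n := hcard
    rw [e] at h
    exact h
  have hred : pPrimeCore p (G ⧸ N) = ⊥ := pPrimeCore_quotient_eq_bot
  have h1 := reduced_case hred ᾱ hᾱp hFixb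
  have h2 : derivedSeries G (tt p n + DD p n) ≤ N := by
    have h3 := map_derivedSeries_le_derivedSeries (QuotientGroup.mk' N) (tt p n + DD p n)
    rw [h1] at h3
    intro x hx
    have : (QuotientGroup.mk' N) x ∈ (⊥ : Subgroup (G ⧸ N)) := h3 ⟨x, hx, rfl⟩
    rw [Subgroup.mem_bot] at this
    exact (QuotientGroup.eq_one_iff x).mp this
  -- the `p'`-core
  let αN : MulAut N := resAut α N hNα
  have hfpf : ∀ x : N, αN x = x → x = 1 := by
    intro x hx
    have hx' : α (x : G) = x := congrArg Subtype.val hx
    let F : Subgroup G := MonoidHom.eqLocus (α : G →* G) (MonoidHom.id G)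
    have hFc : Nat.card F = p ^ n := by
      rw [← hcard]
      exact Nat.card_congr (Equiv.subtypeEquivRight (fun _ => Iff.rfl))
    have hxF : (x : G) ∈ F := hx'
    have h3 : orderOf (⟨(x : G), hxF⟩ : F) ∣ p ^ n := by
      rw [← hFc]
      exact orderOf_dvd_natCard _
    have h4 : orderOf (x : G) ∣ p ^ n := by
      rwa [Subgroup.orderOf_mk] at h3
    have h5 : (orderOf (x : G)).Coprime p := orderOf_coprime_of_mem_pPrimeCore x.2
    have h6 : orderOf (x : G) = 1 :=
      Nat.eq_one_of_dvd_coprimes (h5.pow_right n) dvd_rfl h4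
    apply Subtype.ext
    exact orderOf_eq_one_iff.mp h6
  have hlc : gamN p N = ⊥ := by
    have hdvd : orderOf αN ∣ p := by
      apply orderOf_dvd_of_pow_eq_one
      ext x
      rw [resAut_pow, hαp]
      rfl
    obtain h | h := (Nat.dvd_prime hpp).mp hdvd
    · -- trivial
      have hone : αN = 1 := orderOf_eq_one_iff.mp h
      have hsub : ∀ x : N, x = 1 := fun x => hfpf x (by rw [hone]; rfl)
      refine eq_bot_iff.mpr ?_
      intro x _
      rw [Subgroup.mem_bot]
      exact hsub x
    · exact (Cfsg.Agent.S3779.result hpp αN h hfpf).2.2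
  have h3 := derived_add_le N (tt p n + DD p n) h2 (xiN p)
  have h4 : derivedSeries N (xiN p) = ⊥ := eq_bot_iff.mpr ((derived_le_lcs _ _).trans_eq hlc)
  rw [h4, Subgroup.map_bot] at h3
  exact eq_bot_iff.mpr h3

end Cfsg.Agent.Lib.Alperin.Main
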